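import Mathlib.Algebra.Category.ModuleCat.Ext.HasExt
import Mathlib.Algebra.Homology.DerivedCategory.Ext.ExactSequences
import Groth.Agent.EGA4H10.ProjDim

set_option autoImplicit false
universe u

namespace Groth.Agent.ExtRing94

open CategoryTheory

variable {A : Type u} [CommRing A]

theorem ext_free_eq_zero {X : ModuleCat.{u} A}
    {i : ℕ} (h : Subsingleton (Abelian.Ext X (ModuleCat.of A A) i)) (k : ℕ)
    (x : Abelian.Ext X (ModuleCat.of A (Fin k → A)) i) : x = 0 := by
  classical
  let π : ∀ j, ModuleCat.of A (Fin k → A) ⟶ ModuleCat.of A A := fun j => ModuleCat.ofHom (LinearMap.proj j)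
  let ι : ∀ _j, ModuleCat.of A A ⟶ ModuleCat.of A (Fin k → A) := fun j => ModuleCat.ofHom (LinearMap.single A (fun _ => A) j)
  have e : 𝟙 (ModuleCat.of A (Fin k → A)) = ∑ j, π j ≫ ι j := by
    refine ModuleCat.hom_ext (LinearMap.ext fun v => funext fun l => ?_)
    simp [π, ι, ModuleCat.hom_sum, Pi.single_apply]
  rw [← Abelian.Ext.comp_mk₀_id x, e, Abelian.Ext.mk₀_sum, Abelian.Ext.comp_sum]
  refine Finset.sum_eq_zero fun j _ => ?_
  have hj : x.comp (Abelian.Ext.mk₀ (π j)) (add_zero i) = 0 := @Subsingleton.elim _ h _ _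
  rw [← Abelian.Ext.mk₀_comp_mk₀, ← Abelian.Ext.comp_assoc_of_third_deg_zero, hj, Abelian.Ext.zero_comp]

theorem ext_free_left_eq_zero {P : Type u} [AddCommGroup P] [Module A P] [Module.Projective A P]
    {Y : ModuleCat.{u} A} {i : ℕ} (x : Abelian.Ext (ModuleCat.of A P) Y (i + 1)) : x = 0 :=
  haveI : Projective (ModuleCat.of A P) := (IsProjective.iff_projective P).1 inferInstance
  Abelian.Ext.eq_zero_of_projective x

variable [IsNoetherianRing A]

theorem projective_of_ext_eq_zero (M : Type u) [AddCommGroup M] [Module A M] [Module.Finite A M]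
    (hpd : HasProjectiveDimensionLE (ModuleCat.of A M) 1)
    (hext : Subsingleton (Abelian.Ext (ModuleCat.of A M) (ModuleCat.of A A) 1)) : Module.Projective A M := by
  obtain ⟨n, f, hf⟩ := Module.Finite.exists_fin' A M
  have hS := LinearMap.shortExact_shortComplexKer hf
  have hK : Module.Projective A (LinearMap.ker f) := by
    rw [← Groth.Agent.EGA4H10.hasPD_zero_iff]
    exact (Groth.Agent.EGA4H10.hasPD_succ_iff (LinearMap.ker f).subtype f (Submodule.subtype_injective _)
      (LinearMap.exact_subtype_ker_map f) hf 0).1 hpd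
  obtain ⟨k, g, hg⟩ := Module.Finite.exists_fin' A (LinearMap.ker f)
  obtain ⟨s, hs⟩ := Module.projective_lifting_property g LinearMap.id hg
  have h0 : hS.extClass = 0 := by
    have e : hS.extClass.comp (Abelian.Ext.mk₀ (ModuleCat.ofHom s)) (add_zero 1) = 0 :=
      ext_free_eq_zero hext k _
    have e2 := congrArg (fun x => Abelian.Ext.comp x (Abelian.Ext.mk₀ (ModuleCat.ofHom g)) (add_zero 1)) e
    simp only [Abelian.Ext.zero_comp] at e2
    rw [Abelian.Ext.comp_assoc_of_third_deg_zero, Abelian.Ext.mk₀_comp_mk₀, ← ModuleCat.ofHom_comp, hs] at e2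
    exact (Abelian.Ext.comp_mk₀_id hS.extClass).symm.trans e2
  obtain ⟨x, hx⟩ := Abelian.Ext.covariant_sequence_exact₃ _ hS (Abelian.Ext.mk₀ (𝟙 (ModuleCat.of A M)))
    (n₁ := 1) (zero_add 1) (by rw [h0]; exact Abelian.Ext.comp_zero ..)
  obtain ⟨t, rfl⟩ := (Abelian.Ext.mk₀_bijective _ _).2 x
  rw [Abelian.Ext.mk₀_comp_mk₀] at hx
  have ht := (Abelian.Ext.mk₀_bijective _ _).1 hx
  exact Module.Projective.of_split t.hom f (congrArg ModuleCat.Hom.hom ht)

theorem hasPD_step : ∀ (n : ℕ) (M : Type u) [AddCommGroup M] [Module A M] [Module.Finite A M],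
    HasProjectiveDimensionLE (ModuleCat.of A M) (n + 1) →
    Subsingleton (Abelian.Ext (ModuleCat.of A M) (ModuleCat.of A A) (n + 1)) →
    HasProjectiveDimensionLE (ModuleCat.of A M) n := by
  intro n
  induction n with
  | zero =>
    intro M _ _ _ hpd hext
    exact (Groth.Agent.EGA4H10.hasPD_zero_iff M).2 (projective_of_ext_eq_zero M hpd hext)
  | succ n ih =>
    intro M _ _ _ hpd hext
    obtain ⟨k, f, hf⟩ := Module.Finite.exists_fin' A M
    have hS := LinearMap.shortExact_shortComplexKer hf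
    have hiff := fun m => Groth.Agent.EGA4H10.hasPD_succ_iff (LinearMap.ker f).subtype f (Submodule.subtype_injective _)
      (LinearMap.exact_subtype_ker_map f) hf m
    refine (hiff n).2 (ih _ ((hiff (n + 1)).1 hpd) ⟨fun a b => ?_⟩)
    suffices h : ∀ z : Abelian.Ext (ModuleCat.of A (LinearMap.ker f)) (ModuleCat.of A A) (n + 1), z = 0 from
      (h a).trans (h b).symm
    intro z
    obtain ⟨w, hw⟩ := Abelian.Ext.contravariant_sequence_exact₁ hS (ModuleCat.of A A) z (n₁ := n + 1 + 1) (add_comm _ _)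
      (@Subsingleton.elim _ hext _ _)
    rw [← hw, ext_free_left_eq_zero (P := Fin k → A) w, Abelian.Ext.comp_zero]

theorem hasPD_of_ext_vanishing (M : Type u) [AddCommGroup M] [Module A M] [Module.Finite A M] (q : ℕ) :
    ∀ d : ℕ, HasProjectiveDimensionLE (ModuleCat.of A M) (q + d) →
      (∀ i, q < i → Subsingleton (Abelian.Ext (ModuleCat.of A M) (ModuleCat.of A A) i)) →
      HasProjectiveDimensionLE (ModuleCat.of A M) q := by
  intro d
  induction d with
  | zero => exact fun h _ => h
  | succ d ih => exact fun h hv => ih (hasPD_step (q + d) M h (hv (q + d + 1) (by omega))) hv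

end Groth.Agent.ExtRing94
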